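import Groth.Agent.LC.ExtDim
import Groth.Agent.LC.DepthExt
import Groth.Agent.LC.GorLoc
import Mathlib

/-!
# Regular sequences in Cohen–Macaulay modules are detected by the dimension
-/

universe u

set_option linter.style.haveILetI false

open IsLocalRing RingTheory.Sequence
open scoped Pointwise

namespace Groth.Agent.H1CMDim

variable {R : Type u} [CommRing R] [IsLocalRing R] [IsNoetherianRing R]

theorem supportDim_le_add_length : ∀ (rs : List R) (M : Type u) [AddCommGroup M] [Module R M] [Module.Finite R M],
    (∀ r ∈ rs, r ∈ maximalIdeal R) →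
      Module.supportDim R M ≤ Module.supportDim R (M ⧸ (Ideal.ofList rs • ⊤ : Submodule R M)) + rs.length
  | [], M, _, _, _, _ => by
    rw [Module.supportDim_eq_of_equiv (Submodule.quotEquivOfEqBot (Ideal.ofList ([] : List R) • ⊤ : Submodule R M)
      (by simp [Ideal.ofList_nil]))]
    simp
  | a :: as, M, _, _, _, h => by
    refine (Module.supportDim_le_supportDim_quotSMulTop_succ (h a (List.mem_cons_self ..))).trans ?_
    refine (add_le_add (supportDim_le_add_length as (QuotSMulTop a M) fun r hr =>
      h r (List.mem_cons_of_mem _ hr)) le_rfl).trans (le_of_eq ?_)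
    rw [← Module.supportDim_eq_of_equiv (Submodule.quotOfListConsSMulTopEquivQuotSMulTopInner M a as)]
    simp [add_assoc]

theorem isCM_congr {M N : Type u} [AddCommGroup M] [Module R M] [AddCommGroup N] [Module R N]
    [Module.Finite R M] [Module.Finite R N] (e : M ≃ₗ[R] N) (h : LocCoh.IsCohenMacaulayModule R M) :
    LocCoh.IsCohenMacaulayModule R N := by
  unfold LocCoh.IsCohenMacaulayModule LocCoh.depth at h ⊢
  rw [← Module.supportDim_eq_of_equiv e, h, LC.idealDepth_congr _ e]

/-- A sequence which drops the dimension by its length is regular on a Cohen–Macaulay module. -/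
theorem isWeaklyRegular_of_dim : ∀ (rs : List R) (M : Type u) [AddCommGroup M] [Module R M] [Module.Finite R M],
    LocCoh.IsCohenMacaulayModule R M → (∀ r ∈ rs, r ∈ maximalIdeal R) →
      Module.supportDim R (M ⧸ (Ideal.ofList rs • ⊤ : Submodule R M)) + rs.length ≤ Module.supportDim R M →
        IsWeaklyRegular M rs
  | [], M, _, _, _, _, _, _ => IsWeaklyRegular.nil R M
  | a :: as, M, _, _, _, hM, h, hd => by
    have ha := h a (List.mem_cons_self ..)
    have has : ∀ r ∈ as, r ∈ maximalIdeal R := fun r hr => h r (List.mem_cons_of_mem _ hr)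
    haveI := LC.nontrivial_of_isCM M hM
    haveI : Nontrivial (QuotSMulTop a M) := Submodule.Quotient.nontrivial_iff.2 fun he =>
      (LC.smul_top_ne_top_of_le_maximal (M := M) (J := Ideal.span {a}) ((Ideal.span_singleton_le_iff_mem _).2 ha))
        (by rw [Submodule.ideal_span_singleton_smul]; exact he)
    have hle := supportDim_le_add_length as (QuotSMulTop a M) has
    rw [Module.supportDim_eq_of_equiv (Submodule.quotOfListConsSMulTopEquivQuotSMulTopInner M a as)] at hd
    obtain ⟨D, hD⟩ := LC.exists_supportDim_eq_nat (R := R) M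
    obtain ⟨D₁, hD₁⟩ := LC.exists_supportDim_eq_nat (R := R) (QuotSMulTop a M)
    rw [hD₁] at hle
    rw [hD] at hd
    have hreg : IsSMulRegular M a := by
      by_contra hcon
      obtain ⟨p, hp, hap⟩ : ∃ p ∈ associatedPrimes R M, a ∈ p := by
        have : a ∈ ⋃ p ∈ associatedPrimes R M, (p : Set R) := by
          rw [biUnion_associatedPrimes_eq_compl_regular]
          exact hcon
        simpa using this
      let P : PrimeSpectrum R := ⟨p, hp.isPrime⟩
      have h1 := LC.coheight_eq_of_ass_of_isCM M hM (p := P) hp
      have hsupp : P ∈ Module.support R M := by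
        obtain ⟨_, z, hz⟩ := Groth.Agent.Alg6.mem_ass_iff.1 hp
        exact Module.mem_support_iff_exists_annihilator.2 ⟨z, fun r hr => (hz r).2 (by
          simpa [Submodule.mem_annihilator_span_singleton] using hr)⟩
      have hsupp' : P ∈ Module.support R (QuotSMulTop a M) := by
        rw [Module.support_quotSMulTop]
        exact ⟨hsupp, by simpa using hap⟩
      have h2 := LC.coheight_le_supportDim hsupp'
      rw [h1, hD, hD₁] at h2
      obtain ⟨D₂, hD₂⟩ : ∃ D₂ : ℕ, Module.supportDim R (QuotSMulTop a M ⧸
          (Ideal.ofList as • ⊤ : Submodule R (QuotSMulTop a M))) = (D₂ : WithBot ℕ∞) := by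
        haveI := LC.nontrivial_quot_ofList (M := QuotSMulTop a M) (LC.ofList_le (maximalIdeal R) has)
        exact LC.exists_supportDim_eq_nat _
      rw [hD₂] at hd hle
      rw [List.length_cons] at hd
      have h3 : D ≤ D₁ := by exact_mod_cast h2
      have h4 : D₁ ≤ D₂ + as.length := by exact_mod_cast hle
      have h5 : D₂ + (as.length + 1) ≤ D := by exact_mod_cast hd
      omega
    have heq : (Ideal.ofList [a] • ⊤ : Submodule R M) = a • (⊤ : Submodule R M) := by
      rw [Ideal.ofList_singleton, Submodule.ideal_span_singleton_smul]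
    refine IsWeaklyRegular.cons hreg (isWeaklyRegular_of_dim as _ ?_ has ?_)
    · exact isCM_congr (Submodule.quotEquivOfEq _ _ heq)
        (LC.isCM_quot_ofList M hM ((isWeaklyRegular_singleton_iff M a).2 hreg) (by simpa using ha))
    · have := Module.supportDim_quotSMulTop_succ_eq_supportDim hreg ha
      rw [hD, hD₁] at this
      have h3 : D₁ + 1 = D := by exact_mod_cast this
      rw [hD₁]
      obtain ⟨D₂, hD₂⟩ : ∃ D₂ : ℕ, Module.supportDim R (QuotSMulTop a M ⧸
          (Ideal.ofList as • ⊤ : Submodule R (QuotSMulTop a M))) = (D₂ : WithBot ℕ∞) := by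
        haveI := LC.nontrivial_quot_ofList (M := QuotSMulTop a M) (LC.ofList_le (maximalIdeal R) has)
        exact LC.exists_supportDim_eq_nat _
      rw [hD₂, List.length_cons] at hd
      rw [hD₂]
      have h5 : D₂ + (as.length + 1) ≤ D := by exact_mod_cast hd
      exact_mod_cast (by omega : D₂ + as.length ≤ D₁)

/-- In a Cohen–Macaulay local ring a sequence in the maximal ideal is regular exactly when it drops
the dimension by its length. -/
theorem isRegular_iff_dim [LocCoh.IsCohenMacaulayLocalRing R] (rs : List R) (h : ∀ r ∈ rs, r ∈ maximalIdeal R) :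
    IsRegular R rs ↔ ringKrullDim (R ⧸ Ideal.ofList rs) + rs.length ≤ ringKrullDim R := by
  constructor
  · intro hr
    exact (ringKrullDim_add_length_eq_ringKrullDim_of_isRegular rs hr).le
  · intro hd
    refine IsRegular.of_isWeaklyRegular_of_mem_maximalIdeal R h
      (isWeaklyRegular_of_dim rs R LocCoh.IsCohenMacaulayLocalRing.supportDim_eq_depth h ?_)
    rw [Module.supportDim_eq_of_equiv (Submodule.quotEquivOfEq (Ideal.ofList rs • ⊤ : Submodule R R) (Ideal.ofList rs)
      (by rw [smul_eq_mul, Ideal.mul_top])), Module.supportDim_quotient_eq_ringKrullDim,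
      Module.supportDim_self_eq_ringKrullDim]
    exact hd

end Groth.Agent.H1CMDim
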