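import Groth.Agent.H1CMDim.Basic
import Groth.Agent.CMOpen5.Open
import Groth.Agent.FibDim.RelDim
import Mathlib

/-!
# The fibre dimension near a Cohen–Macaulay point of a morphism
-/

universe u

set_option backward.isDefEq.respectTransparency false
set_option backward.isDefEq.respectTransparency.types false
set_option linter.style.haveILetI false
set_option maxHeartbeats 1000000

open AlgebraicGeometry CategoryTheory IsLocalRing

namespace Groth.Agent.H1CMDim

variable {X Y : Scheme.{u}} (f : X ⟶ Y) [LocallyOfFinitePresentation f]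

/-- Near a point where `f` is flat with Cohen–Macaulay fibre, the components of fibres have one dimension. -/
theorem exists_nhd_rd (x : X) (hx : MoreMor.IsCMAt f x) :
    ∃ (e : ℕ) (U : X.Opens), x ∈ U ∧ (∀ z ∈ U, MoreMor.IsCMAt f z) ∧ ∀ z ∈ U, FibDim.FibMax f z → FibDim.rd f z = e := by
  let W : X.Opens := ⟨{z | MoreMor.IsCMAt f z}, CMOpen5.isOpen_isCMAt f⟩
  let g : (W : Scheme.{u}) ⟶ Y := W.ι ≫ f
  have hcm : ∀ w : (W : Scheme.{u}), MoreMor.IsCMAt g w := fun w => (CMOpen5.isCMAt_openImmersion_comp W.ι f w).2 w.2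
  haveI : Flat g := Flat.iff_flat_stalkMap g |>.2 fun w => (hcm w).1
  let x' : (W : Scheme.{u}) := ⟨x, hx⟩
  obtain ⟨e, he⟩ := exists_pure g x' (hcm x').2
  refine ⟨e, W.ι ''ᵁ ⟨{w | Pure g e w}, isOpen_pure g e⟩, ⟨x', he, rfl⟩, ?_, ?_⟩
  · rintro _ ⟨w, -, rfl⟩
    exact w.2
  · rintro _ ⟨w, hw, rfl⟩ hmax
    have hmax' := (FibDim.fibMax_opens_iff f W w).2 hmax
    have h := hw w (specializes_refl w) rfl (xass_of_fibMax g hmax')
    have e1 : FibDim.rd f (W.ι w) = FibDim.rd g w := (FibDim.rd_opens f W w).symm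
    refine e1.trans ?_
    exact_mod_cast h

end Groth.Agent.H1CMDim
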