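import Groth.Agent.H1AssDim.Equidim
import Groth.Agent.H1GeomRk.Unit
import Groth.Agent.FormCat.CM
import Groth.Agent.LC.CanonSupport
import Mathlib

/-!
# Fibre dimensions of flat morphisms with Cohen–Macaulay fibres
-/

universe u

set_option backward.isDefEq.respectTransparency false
set_option backward.isDefEq.respectTransparency.types false
set_option linter.style.haveILetI false
set_option maxHeartbeats 1000000

open AlgebraicGeometry CategoryTheory IsLocalRing

namespace Groth.Agent.H1CMDim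

open H1AssDim (XGen XAss XMin XSk)

/-- In a Cohen–Macaulay local ring the associated primes are minimal. -/
theorem mem_minimalPrimes_of_cm (R : Type u) [CommRing R] [IsNoetherianRing R] [IsLocalRing R]
    (hCM : LocCoh.IsCohenMacaulayModule R R) (p : Ideal R) (hp : p ∈ associatedPrimes R R) : p ∈ minimalPrimes R := by
  haveI := (show IsAssociatedPrime p R from hp).isPrime
  have h := LC.Canon.height_add_dim_quot_le p
  rw [FormCat.isStrictlyEquidim_of_CM R hCM p hp] at h
  rw [← Ideal.height_eq_zero_iff]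
  obtain ⟨n, hn⟩ : ∃ n : ℕ, ringKrullDim R = (n : WithBot ℕ∞) := by
    have h1 := ringKrullDim_lt_top (R := R)
    have h2 : ringKrullDim R ≠ ⊥ := ringKrullDim_ne_bot
    obtain ⟨m, hm⟩ := WithBot.ne_bot_iff_exists.1 h2
    rw [← hm] at h1 ⊢
    obtain ⟨k, rfl⟩ := ENat.ne_top_iff_exists.1 (fun h : m = ⊤ => by rw [h] at h1; exact lt_irrefl _ h1)
    exact ⟨k, rfl⟩
  rw [hn] at h
  obtain ⟨k, hk⟩ := ENat.ne_top_iff_exists.1 (Ideal.height_ne_top (I := p) Ideal.IsPrime.ne_top')
  rw [← hk] at h ⊢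
  have : k + n ≤ n := by exact_mod_cast h
  have : k = 0 := by omega
  simp [this]

variable {X Y : Scheme.{u}} (f : X ⟶ Y)

/-- The generizations in the fibre that are associated all have relative dimension `e`. -/
def Pure (e : ℕ) (x : X) : Prop :=
  XGen f (fun t => XAss f (Coh.structureModule X) t → (FibDim.rd f t : ℕ∞) = e) x

theorem isOpen_pure [Flat f] [LocallyOfFinitePresentation f] (e : ℕ) : IsOpen {x : X | Pure f e x} :=
  H1AssDim.isOpen_xassGen f _ (H1GeomRk.isFP_structureModule X) (H1GeomRk.isFlatOver_structureModule f) {(e : ℕ∞)}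

/-- Maximal points of fibres are associated. -/
theorem xass_of_fibMax [LocallyOfFiniteType f] {z : X} (hz : FibDim.FibMax f z) : XAss f (Coh.structureModule X) z := by
  have hF := H1GeomRk.isFP_structureModule X
  have hw : f.fiberι (f z) (f.asFiber z) = z := f.fiberι_asFiber z
  rw [← hw] at hz ⊢
  haveI : IsLocallyNoetherian (f.fiber (f z)) := LocallyOfFiniteType.isLocallyNoetherian (f.fiberToSpecResidueField (f z))
  obtain ⟨e⟩ := H1GeomRk.nonempty_fibre_unit_equiv f (f z) (f.asFiber z)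
  have hsupp : f.asFiber z ∈ CohB1.support ((Scheme.Modules.pullback (f.fiberι (f z))).obj (Coh.structureModule X)) :=
    not_subsingleton_iff_nontrivial.2 e.toEquiv.nontrivial
  obtain ⟨w₁, hw₁, hsp⟩ := AssLib.exists_ass_specializes
    (QCoh.isQCoh_pullback (f.fiberι (f z)) (QCoh.isQCoh_of_isFP hF)) hsupp
  rw [(FibDim.fibMax_fiberι_iff f _).1 hz w₁ hsp] at hw₁
  exact (H1AssDim.mem_ass_iff f _ hF _ _).1 hw₁

/-- A point with Cohen–Macaulay fibre is pure. -/
theorem exists_pure [LocallyOfFinitePresentation f] (x : X)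
    (hCM : LocCoh.IsCohenMacaulayLocalRing ((f.fiber (f.base x)).presheaf.stalk (f.asFiber x))) :
    ∃ e, Pure f e x := by
  have hF := H1GeomRk.isFP_structureModule X
  haveI : IsLocallyNoetherian (f.fiber (f.base x)) :=
    LocallyOfFiniteType.isLocallyNoetherian (f.fiberToSpecResidueField (f.base x))
  have hcm : LocCoh.IsCohenMacaulayModule ((f.fiber (f.base x)).presheaf.stalk (f.asFiber x))
      ((f.fiber (f.base x)).presheaf.stalk (f.asFiber x)) := hCM.supportDim_eq_depth
  obtain ⟨heq, hsk⟩ := (H1GeomRk.forall_fibre_iff f (f.base x) (f.asFiber x)).2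
    ⟨FormCat.isEquidim_of_CM _ _ hcm (Set.eq_univ_of_forall fun p => by
      rw [Module.support_of_algebra]; exact (RingHom.ker_eq_bot_iff_eq_zero _).2 (fun _ h => h) |>.trans_le bot_le), mem_minimalPrimes_of_cm _ hcm⟩
  rw [H1AssDim.isEquidimModule_fibre_iff f _ hF] at heq
  rw [H1AssDim.hasSk_fibre_iff f _ hF] at hsk
  have hmin : ∀ z, z ⤳ f.asFiber x → XAss f (Coh.structureModule X) (f.fiberι (f.base x) z) →
      XMin f (Coh.structureModule X) (f.fiberι (f.base x) z) :=
    fun z hz ha => H1AssDim.xmin_of_xsk f _ hF le_rfl _ z (hsk z hz) ha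
  by_cases hex : ∃ z, z ⤳ f.asFiber x ∧ XAss f (Coh.structureModule X) (f.fiberι (f.base x) z)
  · obtain ⟨z₀, hz₀, ha₀⟩ := hex
    refine ⟨FibDim.rd f (f.fiberι (f.base x) z₀),
      (H1AssDim.forall_fibre_gen_iff f x _ _ fun z => Iff.rfl).1 fun z hz ha => ?_⟩
    have hz' := specializes_iff_mem_closure.2 hz
    rw [heq z z₀ hz' hz₀ (hmin z hz' ha) (hmin z₀ hz₀ ha₀)]
  · exact ⟨0, (H1AssDim.forall_fibre_gen_iff f x _ _ fun z => Iff.rfl).1 fun z hz ha =>
      absurd ⟨z, specializes_iff_mem_closure.2 hz, ha⟩ hex⟩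

end Groth.Agent.H1CMDim
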