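import Groth.Agent.VarDim.Basic
import Groth.Agent.CAlgOdd.CMCatenary
import Groth.Agent.H1AssDim.Poly
import Groth.Agent.H1CMDim.Basic
import Groth.Agent.FlatLoc6.FiberRing
import Mathlib

/-!
# Components through a Cohen–Macaulay point, and fibre dimensions on rings
-/

universe u

set_option backward.isDefEq.respectTransparency false
set_option backward.isDefEq.respectTransparency.types false
set_option linter.style.haveILetI false
set_option maxHeartbeats 1000000

open Order

namespace Groth.Agent.H1CMDim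

theorem coheight_Iic_eq_height_Ici {α : Type u} [Preorder α] {a b : α} (h : a ≤ b) :
    coheight (⟨a, h⟩ : Set.Iic b) = height (⟨b, h⟩ : Set.Ici a) := by
  apply WithBot.coe_injective
  rw [coheight_eq_krullDim_Ici, height_eq_krullDim_Iic]
  exact krullDim_eq_of_orderIso
    { toFun := fun x => ⟨⟨x.1.1, x.2⟩, x.1.2⟩
      invFun := fun x => ⟨⟨x.1.1, x.2⟩, x.1.2⟩
      left_inv := fun _ => rfl
      right_inv := fun _ => rfl
      map_rel_iff' := Iff.rfl }

variable (k : Type u) [Field k] {F : Type u} [CommRing F] [Algebra k F] [Algebra.FiniteType k F]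

include k in
/-- For a minimal prime below a Cohen–Macaulay point, the coheight is determined by that point. -/
theorem coheight_eq_of_minimal {P Q : PrimeSpectrum F} (h : P ≤ Q) (hP : IsMin P)
    (hCM : LocCoh.IsCohenMacaulayLocalRing (Localization.AtPrime Q.asIdeal)) :
    coheight P = height Q + coheight Q := by
  haveI : IsNoetherianRing (Localization.AtPrime Q.asIdeal) := inferInstance
  let L := Localization.AtPrime Q.asIdeal
  let φ := IsLocalization.AtPrime.primeSpectrumOrderIso L Q.asIdeal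
  let P' : PrimeSpectrum L := φ.symm ⟨P, h⟩
  have hmin : IsMin P' := fun R hR => by
    have h1 : (φ R).1 ≤ P := by
      have := φ.monotone hR
      rw [φ.apply_symm_apply] at this
      exact this
    have := φ.symm.monotone (show (⟨P, h⟩ : Set.Iic (⟨Q.asIdeal, Q.2⟩ : PrimeSpectrum F)) ≤ φ R from hP h1)
    rwa [φ.symm_apply_apply] at this
  have hc := CAlgOdd.CMCatenary.height_add_coheight L hCM.supportDim_eq_depth (Set.eq_univ_of_forall fun p => by
    rw [Module.support_of_algebra]
    exact ((RingHom.ker_eq_bot_iff_eq_zero _).2 fun _ h => h).trans_le bot_le) P'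
  rw [PrimeSpectrum.height_eq_orderHeight P', height_eq_zero.2 hmin, IsLocalization.AtPrime.ringKrullDim_eq_height Q.asIdeal L,
    PrimeSpectrum.height_eq_orderHeight Q] at hc
  simp only [WithBot.coe_zero, zero_add, WithBot.coe_inj] at hc
  have hco : coheight (⟨P, h⟩ : Set.Iic Q) = coheight P' := (coheight_orderIso φ.symm _).symm
  rw [coheight_Iic_eq_height_Ici h] at hco
  let A := F ⧸ P.asIdeal
  obtain ⟨n, hn⟩ : ∃ n : ℕ, ringKrullDim A = n := by
    obtain ⟨n, hn, -⟩ := VarDim.exists_dim_eq_trdeg k A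
    exact ⟨n, hn⟩
  let ψ : PrimeSpectrum A ≃o Set.Ici P :=
    (Ideal.primeSpectrumQuotientOrderIsoZeroLocus P.asIdeal).trans
      (OrderIso.setCongr _ _ (Set.ext fun x => Iff.rfl))
  let Q' : PrimeSpectrum A := ψ.symm ⟨Q, h⟩
  have hA := VarDim.height_add_coheight_eq (k := k) n A hn Q'
  have e1 : height Q' = height (⟨Q, h⟩ : Set.Ici P) := height_orderIso ψ.symm _
  have e2 : coheight Q' = coheight Q := by
    refine (coheight_orderIso ψ.symm _).trans (WithBot.coe_injective ?_)
    rw [coheight_eq_krullDim_Ici, coheight_eq_krullDim_Ici]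
    exact krullDim_eq_of_orderIso
      { toFun := fun x => ⟨x.1.1, x.2⟩
        invFun := fun x => ⟨⟨x.1, le_trans h x.2⟩, x.2⟩
        left_inv := fun _ => rfl
        right_inv := fun _ => rfl
        map_rel_iff' := Iff.rfl }
  rw [e1, e2, hco, hc] at hA
  have e3 : (coheight P : WithBot ℕ∞) = ringKrullDim A := VarDim.coheight_eq_ringKrullDim_quotient P
  rw [hn, show ((n : ℕ) : WithBot ℕ∞) = ((n : ℕ∞) : WithBot ℕ∞) from rfl, WithBot.coe_inj] at e3
  rw [e3, hA]

section Ring

variable {A B : Type u} [CommRing A] [CommRing B] [Algebra A B] [Algebra.FiniteType A B]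
  (hCM : ∀ p : PrimeSpectrum A, LocCoh.IsCohenMacaulayRing (p.asIdeal.Fiber B))

open FibDim (fib)
open H1AssDim (Gen AssOne cd)

include hCM in
/-- Associated points of Cohen–Macaulay fibres are the minimal ones. -/
theorem assOne_iff_isMin (y : PrimeSpectrum A) (t : ↥(fib (B := B) y)) :
    AssOne A B t.1 ↔ IsMin t := by
  haveI := hCM y
  let Q := PrimeSpectrum.preimageOrderIsoFiber A B y t
  haveI hloc := LocCoh.IsCohenMacaulayRing.isCohenMacaulayLocalRing_localization (R := y.asIdeal.Fiber B) Q.asIdeal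
  have hq : Q.asIdeal.comap Algebra.TensorProduct.includeRight = t.1.asIdeal :=
    congrArg (fun z => z.1.asIdeal) ((PrimeSpectrum.preimageOrderIsoFiber A B y).symm_apply_apply t)
  obtain ⟨-, h2⟩ := FlatLoc6.fib_of_fiber_prime y.asIdeal Q.asIdeal t.1.asIdeal hq
  show FlatLoc6.fibDepth A t.1.asIdeal B = 0 ↔ _
  rw [h2]
  have h3 := hloc.supportDim_eq_depth
  rw [Module.supportDim_self_eq_ringKrullDim, IsLocalization.AtPrime.ringKrullDim_eq_height Q.asIdeal
    (Localization.AtPrime Q.asIdeal), WithBot.coe_inj, PrimeSpectrum.height_eq_orderHeight Q] at h3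
  rw [← h3, height_eq_zero]
  exact (PrimeSpectrum.preimageOrderIsoFiber A B y).isMin_apply

theorem cd_eq (y : PrimeSpectrum A) (t : ↥(fib (B := B) y)) :
    cd A t.1 = coheight (PrimeSpectrum.preimageOrderIsoFiber A B y t) := by
  obtain ⟨t, rfl⟩ := t
  exact (coheight_orderIso (PrimeSpectrum.preimageOrderIsoFiber A B (PrimeSpectrum.comap (algebraMap A B) t)) _).symm

include hCM in
/-- Each point lies in one of the pieces of constant fibre dimension. -/
theorem exists_gen (q : PrimeSpectrum B) : ∃ e : ℕ, Gen A (fun t => AssOne A B t → cd A t = (e : ℕ∞)) q := by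
  let y := PrimeSpectrum.comap (algebraMap A B) q
  let φ := PrimeSpectrum.preimageOrderIsoFiber A B y
  let Q := φ ⟨q, rfl⟩
  haveI := hCM y
  haveI hloc := LocCoh.IsCohenMacaulayRing.isCohenMacaulayLocalRing_localization (R := y.asIdeal.Fiber B) Q.asIdeal
  obtain ⟨P, hP, hPQ⟩ := Ideal.exists_minimalPrimes_le (bot_le : (⊥ : Ideal (y.asIdeal.Fiber B)) ≤ Q.asIdeal)
  haveI : P.IsPrime := hP.1.1
  obtain ⟨n, hn, -⟩ := VarDim.exists_dim_eq_trdeg y.asIdeal.ResidueField (y.asIdeal.Fiber B ⧸ P)
  have hPmin : IsMin (⟨P, hP.1.1⟩ : PrimeSpectrum (y.asIdeal.Fiber B)) := fun R hR => hP.2 ⟨R.2, bot_le⟩ hR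
  refine ⟨n, fun t ht he ha => ?_⟩
  have hm := (assOne_iff_isMin hCM y ⟨t, he⟩).1 ha
  rw [show cd A t = coheight (φ ⟨t, he⟩) from cd_eq y ⟨t, he⟩,
    coheight_eq_of_minimal y.asIdeal.ResidueField (φ.monotone (show (⟨t, he⟩ : ↥(fib (B := B) y)) ≤ ⟨q, rfl⟩ from ht))
      (φ.isMin_apply.2 hm) hloc,
    ← coheight_eq_of_minimal y.asIdeal.ResidueField (P := ⟨P, hP.1.1⟩) hPQ hPmin hloc]
  exact WithBot.coe_inj.1 ((VarDim.coheight_eq_ringKrullDim_quotient _).trans hn)

end Ring

end Groth.Agent.H1CMDim
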