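import Groth.Agent.H1CMDim.Alg
import Groth.Agent.H1CMDim.RegSeq
import Groth.Agent.LC.LiaisonLocal
import Mathlib

/-!
# Regular sequences in Cohen–Macaulay fibres and upper semicontinuity of fibre dimensions
-/

universe u

set_option backward.isDefEq.respectTransparency false
set_option backward.isDefEq.respectTransparency.types false
set_option linter.style.haveILetI false
set_option maxHeartbeats 1000000

open Order Topology IsLocalRing

namespace Groth.Agent.H1CMDim

/-- In a finite type algebra over a field, coheights add along a specialization. -/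
theorem coheight_eq_add (k : Type u) [Field k] {F : Type u} [CommRing F] [Algebra k F] [Algebra.FiniteType k F]
    {P Q : PrimeSpectrum F} (h : P ≤ Q) :
    coheight P = coheight (⟨P, h⟩ : Set.Iic Q) + coheight Q := by
  let A := F ⧸ P.asIdeal
  obtain ⟨n, hn⟩ : ∃ n : ℕ, ringKrullDim A = n := by
    obtain ⟨n, hn, -⟩ := VarDim.exists_dim_eq_trdeg k A
    exact ⟨n, hn⟩
  let ψ : PrimeSpectrum A ≃o Set.Ici P :=
    (Ideal.primeSpectrumQuotientOrderIsoZeroLocus P.asIdeal).trans
      (OrderIso.setCongr _ _ (Set.ext fun x => Iff.rfl))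
  let Q' : PrimeSpectrum A := ψ.symm ⟨Q, h⟩
  have hA := VarDim.height_add_coheight_eq (k := k) n A hn Q'
  have e1 : height Q' = height (⟨Q, h⟩ : Set.Ici P) := height_orderIso ψ.symm _
  have e2 : coheight Q' = coheight Q := by
    refine (coheight_orderIso ψ.symm _).trans (WithBot.coe_injective ?_)
    rw [coheight_eq_krullDim_Ici, coheight_eq_krullDim_Ici]
    exact krullDim_eq_of_orderIso
      { toFun := fun x => ⟨x.1.1, x.2⟩
        invFun := fun x => ⟨⟨x.1, le_trans h x.2⟩, x.2⟩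
        left_inv := fun _ => rfl
        right_inv := fun _ => rfl
        map_rel_iff' := Iff.rfl }
  rw [e1, e2, ← coheight_Iic_eq_height_Ici h] at hA
  have e3 : (coheight P : WithBot ℕ∞) = ringKrullDim A := VarDim.coheight_eq_ringKrullDim_quotient P
  rw [hn, show ((n : ℕ) : WithBot ℕ∞) = ((n : ℕ∞) : WithBot ℕ∞) from rfl, WithBot.coe_inj] at e3
  rw [e3, hA]

theorem ringKrullDim_quotient_le_iff {L : Type u} [CommRing L] (I : Ideal L) (n : WithBot ℕ∞) :
    ringKrullDim (L ⧸ I) ≤ n ↔ ∀ P : PrimeSpectrum L, I ≤ P.asIdeal → (coheight P : WithBot ℕ∞) ≤ n := by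
  rw [ringKrullDim_quotient]
  refine ⟨fun h P hP => le_trans ?_ h, fun h => iSup_le fun l => ?_⟩
  · rw [coheight_eq_krullDim_Ici]
    exact krullDim_le_of_strictMono (fun x => ⟨x.1, hP.trans x.2⟩) fun _ _ hab => hab
  · exact (WithBot.coe_le_coe.2 (length_le_coheight (p := l.map Subtype.val fun _ _ hab => hab) le_rfl)).trans
      (h _ l.head.2)

variable {A B : Type u} [CommRing A] [CommRing B] [Algebra A B]

open FibDim (fib)
open H1AssDim (Gen cd)

theorem cd_fib (y : PrimeSpectrum A) (t : ↥(fib (B := B) y)) : cd A t.1 = coheight t := by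
  obtain ⟨t, rfl⟩ := t
  rfl

theorem coheight_fib_eq_add [Algebra.FiniteType A B] {y : PrimeSpectrum A} {t q : ↥(fib (B := B) y)} (h : t ≤ q) :
    coheight t = coheight (⟨t, h⟩ : Set.Iic q) + coheight q := by
  let φ := PrimeSpectrum.preimageOrderIsoFiber A B y
  let ψ : ↥(Set.Iic q) ≃o ↥(Set.Iic (φ q)) :=
    { toFun := fun x => ⟨φ x.1, φ.monotone x.2⟩
      invFun := fun x => ⟨φ.symm x.1, φ.le_iff_le.1 (by rw [φ.apply_symm_apply]; exact x.2)⟩
      left_inv := fun x => Subtype.ext (φ.symm_apply_apply x.1)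
      right_inv := fun x => Subtype.ext (φ.apply_symm_apply x.1)
      map_rel_iff' := φ.le_iff_le }
  have := coheight_eq_add y.asIdeal.ResidueField (φ.monotone h)
  rw [coheight_orderIso, coheight_orderIso,
    show (⟨φ t, φ.monotone h⟩ : Set.Iic (φ q)) = ψ ⟨t, h⟩ from rfl, coheight_orderIso] at this
  exact this

/-- The spectrum of the fibre local ring. -/
theorem exists_orderIso_fibLocRing (q : PrimeSpectrum B) :
    ∃ ψ : PrimeSpectrum (EGA4.FibLocRing A B q.asIdeal) ≃o
      Set.Iic (⟨q, rfl⟩ : ↥(fib (B := B) (PrimeSpectrum.comap (algebraMap A B) q))),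
      ∀ P, (ψ P).1.1.asIdeal = P.asIdeal.comap (algebraMap B (EGA4.FibLocRing A B q.asIdeal)) := by
  let Lq := Localization.AtPrime q.asIdeal
  let J : Ideal Lq := (q.asIdeal.comap (algebraMap A B)).map (algebraMap A Lq)
  let χ := IsLocalization.AtPrime.primeSpectrumOrderIso Lq q.asIdeal
  let Z := Ideal.primeSpectrumQuotientOrderIsoZeroLocus J
  have hmem : ∀ x : ↥(PrimeSpectrum.zeroLocus (R := Lq) J),
      PrimeSpectrum.comap (algebraMap A B) (χ x.1).1 = PrimeSpectrum.comap (algebraMap A B) q := fun x => by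
    refine le_antisymm (show Ideal.comap (algebraMap A B) (χ x.1).1.asIdeal ≤ _ from Ideal.comap_mono (χ x.1).2) ?_
    intro a ha
    have : algebraMap A Lq a ∈ x.1.asIdeal := x.2 (Ideal.mem_map_of_mem _ ha)
    rw [IsScalarTower.algebraMap_apply A B Lq] at this
    exact this
  have hinv : ∀ w : Set.Iic (⟨q, rfl⟩ : ↥(fib (B := B) (PrimeSpectrum.comap (algebraMap A B) q))),
      χ.symm ⟨w.1.1, w.2⟩ ∈ PrimeSpectrum.zeroLocus (R := Lq) J := fun w => by
    show J ≤ (χ.symm ⟨w.1.1, w.2⟩).asIdeal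
    rw [Ideal.map_le_iff_le_comap, IsScalarTower.algebraMap_eq A B Lq, ← Ideal.comap_comap]
    have h1 : (χ (χ.symm ⟨w.1.1, w.2⟩)).1 = w.1.1 := by rw [χ.apply_symm_apply]
    show _ ≤ Ideal.comap (algebraMap A B) (χ (χ.symm ⟨w.1.1, w.2⟩)).1.asIdeal
    rw [h1]
    exact (congrArg PrimeSpectrum.asIdeal w.1.2).ge
  let e : ↥(PrimeSpectrum.zeroLocus (R := Lq) J) ≃o
      Set.Iic (⟨q, rfl⟩ : ↥(fib (B := B) (PrimeSpectrum.comap (algebraMap A B) q))) :=
    { toFun := fun x => ⟨⟨(χ x.1).1, hmem x⟩, (χ x.1).2⟩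
      invFun := fun w => ⟨χ.symm ⟨w.1.1, w.2⟩, hinv w⟩
      left_inv := fun x => Subtype.ext (χ.symm_apply_apply x.1)
      right_inv := fun w => Subtype.ext (Subtype.ext (congrArg (fun z => z.1) (χ.apply_symm_apply ⟨w.1.1, w.2⟩)))
      map_rel_iff' := χ.le_iff_le }
  exact ⟨Z.trans e, fun P => rfl⟩

variable [Algebra.FiniteType A B] (hCM : ∀ p : PrimeSpectrum A, LocCoh.IsCohenMacaulayRing (p.asIdeal.Fiber B))

include hCM in
theorem isCM_fibLocRing (q : PrimeSpectrum B) :
    ∃ (_ : IsLocalRing (EGA4.FibLocRing A B q.asIdeal)) (_ : IsNoetherianRing (EGA4.FibLocRing A B q.asIdeal)),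
      LocCoh.IsCohenMacaulayLocalRing (EGA4.FibLocRing A B q.asIdeal) := by
  let y := PrimeSpectrum.comap (algebraMap A B) q
  obtain ⟨Q, hQ⟩ := FlatLoc6.exists_fiber_prime y.asIdeal q.asIdeal rfl
  suffices ∀ r : Ideal B, [r.IsPrime] → Q.asIdeal.comap Algebra.TensorProduct.includeRight = r →
      ∃ (_ : IsLocalRing (EGA4.FibLocRing A B r)) (_ : IsNoetherianRing (EGA4.FibLocRing A B r)),
        LocCoh.IsCohenMacaulayLocalRing (EGA4.FibLocRing A B r) from this q.asIdeal hQ
  intro r _ hr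
  subst hr
  haveI := hCM y
  haveI hloc := LocCoh.IsCohenMacaulayRing.isCohenMacaulayLocalRing_localization (R := y.asIdeal.Fiber B) Q.asIdeal
  obtain ⟨e⟩ := FlatLoc6.exists_fibLocEquiv (B := B) y.asIdeal Q.asIdeal
  haveI hl := e.isLocalRing
  haveI hn : IsNoetherianRing (EGA4.FibLocRing A B (Q.asIdeal.comap Algebra.TensorProduct.includeRight)) :=
    isNoetherianRing_of_ringEquiv _ e
  exact ⟨hl, hn, LC.Liaison.isCMLocal_of_ringEquiv (A := Localization.AtPrime Q.asIdeal) e⟩

include hCM in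
/-- Regularity in the fibre local ring is a condition on coheights in the fibre. -/
theorem isRegular_fibLocRing_iff {d : ℕ}
    (heq : ∀ p : PrimeSpectrum A, ∀ P ∈ minimalPrimes (p.asIdeal.Fiber B),
      ringKrullDim (p.asIdeal.Fiber B ⧸ P) = (d : WithBot ℕ∞))
    (f : List B) (q : PrimeSpectrum B) (hf : Ideal.ofList f ≤ q.asIdeal) :
    RingTheory.Sequence.IsRegular (EGA4.FibLocRing A B q.asIdeal)
        (f.map (algebraMap B (EGA4.FibLocRing A B q.asIdeal))) ↔
      Gen A (fun t => Ideal.ofList f ≤ t.asIdeal → cd A t + f.length ≤ (d : ℕ∞)) q := by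
  obtain ⟨hl, hn, hL⟩ := isCM_fibLocRing hCM q
  obtain ⟨ψ, hψ⟩ := exists_orderIso_fibLocRing (A := A) q
  let y := PrimeSpectrum.comap (algebraMap A B) q
  let φ := PrimeSpectrum.preimageOrderIsoFiber A B y
  let qf : ↥(fib (B := B) y) := ⟨q, rfl⟩
  haveI := hCM y
  haveI hloc := LocCoh.IsCohenMacaulayRing.isCohenMacaulayLocalRing_localization (R := y.asIdeal.Fiber B)
    (φ qf).asIdeal
  obtain ⟨P, hP, hPQ⟩ := Ideal.exists_minimalPrimes_le (bot_le : (⊥ : Ideal (y.asIdeal.Fiber B)) ≤ (φ qf).asIdeal)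
  have hd : height qf + coheight qf = (d : ℕ∞) := by
    rw [← height_orderIso φ, ← coheight_orderIso φ, ← coheight_eq_of_minimal y.asIdeal.ResidueField
      (P := ⟨P, hP.1.1⟩) hPQ (fun R' hR => hP.2 ⟨R'.2, bot_le⟩ hR) hloc]
    exact WithBot.coe_inj.1 ((VarDim.coheight_eq_ringKrullDim_quotient _).trans (heq y P hP))
  obtain ⟨a, c, ha, hc, hac⟩ : ∃ a c : ℕ, height qf = (a : ℕ∞) ∧ coheight qf = (c : ℕ∞) ∧ a + c = d := by
    have h1 : height qf ≠ ⊤ := fun h => by rw [h, top_add] at hd; exact ENat.top_ne_natCast d hd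
    have h2 : coheight qf ≠ ⊤ := fun h => by rw [h, add_top] at hd; exact ENat.top_ne_natCast d hd
    obtain ⟨a, ha⟩ := ENat.ne_top_iff_exists.1 h1
    obtain ⟨c, hc⟩ := ENat.ne_top_iff_exists.1 h2
    refine ⟨a, c, ha.symm, hc.symm, ?_⟩
    rw [← ha, ← hc] at hd
    exact_mod_cast hd
  have hdimL : ringKrullDim (EGA4.FibLocRing A B q.asIdeal) = (a : WithBot ℕ∞) := by
    rw [ringKrullDim, krullDim_eq_of_orderIso ψ, ← height_eq_krullDim_Iic, ha]
    rfl
  have hmemψ : ∀ P, Ideal.ofList (f.map (algebraMap B (EGA4.FibLocRing A B q.asIdeal))) ≤ P.asIdeal ↔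
      Ideal.ofList f ≤ (ψ P).1.1.asIdeal := fun P => by
    rw [← Ideal.map_ofList, Ideal.map_le_iff_le_comap, hψ]
  have hm : ∀ r ∈ f.map (algebraMap B (EGA4.FibLocRing A B q.asIdeal)),
      r ∈ maximalIdeal (EGA4.FibLocRing A B q.asIdeal) := fun r hr => by
    have hc' := (ψ (closedPoint _)).2
    have h1 : (ψ (closedPoint _)).1 = qf := by
      refine le_antisymm hc' ?_
      have := ψ.monotone (show ψ.symm ⟨qf, le_refl qf⟩ ≤ closedPoint _ from le_maximalIdeal (ψ.symm ⟨qf, le_refl qf⟩).2.ne_top)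
      rwa [ψ.apply_symm_apply] at this
    refine (Ideal.span_le.1 ((hmemψ (closedPoint _)).2 ?_)) hr
    rw [h1]
    exact hf
  rw [isRegular_iff_dim _ hm, hdimL, List.length_map]
  constructor
  · intro h t htq hty htf
    let tf : ↥(fib (B := B) y) := ⟨t, hty⟩
    have hle : tf ≤ qf := htq
    let P' := ψ.symm ⟨tf, hle⟩
    have hP' : Ideal.ofList (f.map (algebraMap B (EGA4.FibLocRing A B q.asIdeal))) ≤ P'.asIdeal := by
      rw [hmemψ, ψ.apply_symm_apply]
      exact htf
    have h1 := (add_le_add ((ringKrullDim_quotient_le_iff _ _).1 le_rfl P' hP') le_rfl).trans h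
    rw [coheight_orderIso] at h1
    show cd A tf.1 + _ ≤ _
    rw [cd_fib y tf, coheight_fib_eq_add hle, hc]
    have h2 : coheight (⟨tf, hle⟩ : Set.Iic qf) + (f.length : ℕ∞) ≤ (a : ℕ∞) := WithBot.coe_le_coe.1 (by push_cast; exact h1)
    calc coheight (⟨tf, hle⟩ : Set.Iic qf) + (c : ℕ∞) + f.length
        = coheight (⟨tf, hle⟩ : Set.Iic qf) + f.length + c := add_right_comm _ _ _
      _ ≤ (a : ℕ∞) + c := by gcongr
      _ = d := by exact_mod_cast hac
  · intro h
    have hq := h q le_rfl rfl hf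
    rw [show cd A q = coheight qf from cd_fib y qf, hc] at hq
    have hia : c + f.length ≤ d := by exact_mod_cast hq
    have hk : ringKrullDim (EGA4.FibLocRing A B q.asIdeal ⧸
        Ideal.ofList (f.map (algebraMap B (EGA4.FibLocRing A B q.asIdeal)))) ≤ ((a - f.length : ℕ) : WithBot ℕ∞) := by
      refine (ringKrullDim_quotient_le_iff _ _).2 fun P' hP' => ?_
      have h1 := h (ψ P').1.1 (ψ P').2 (ψ P').1.2 ((hmemψ P').1 hP')
      rw [cd_fib y (ψ P').1, coheight_fib_eq_add (ψ P').2, hc,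
        show (⟨(ψ P').1, (ψ P').2⟩ : Set.Iic qf) = ψ P' from rfl, coheight_orderIso] at h1
      obtain ⟨m, hm'⟩ : ∃ m : ℕ, coheight P' = (m : ℕ∞) := by
        refine ⟨(coheight P').toNat, (ENat.natCast_toNat fun ht => ?_).symm⟩
        rw [ht, top_add, top_add, top_le_iff] at h1
        exact ENat.top_ne_natCast d h1.symm
      rw [hm'] at h1 ⊢
      have : m + c + f.length ≤ d := by exact_mod_cast h1
      exact WithBot.coe_le_coe.2 (Nat.cast_le.2 (by omega : m ≤ a - f.length))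
    refine (add_le_add hk le_rfl).trans ?_
    exact_mod_cast (by omega : a - f.length + f.length ≤ a)

theorem krullDim_eq_topologicalKrullDim {T : Type u} [TopologicalSpace T] [QuasiSober T] [T0Space T] [PartialOrder T]
    (h : ∀ a b : T, a ≤ b ↔ a ⤳ b) : topologicalKrullDim T = krullDim T := by
  refine (@krullDim_eq_of_orderIso _ _ _ (specializationOrder T).toPreorder
    (irreducibleSetEquivPoints (α := T))).trans ?_
  rw [← krullDim_orderDual (α := T)]
  exact @krullDim_eq_of_orderIso _ _ (specializationOrder T).toPreorder _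
    (@RelIso.mk T Tᵒᵈ (fun a b => (specializationOrder T).le a b) (fun a b => a ≤ b) OrderDual.toDual
      fun {a b} => h b a)

omit [Algebra.FiniteType A B] in
theorem topologicalKrullDim_inter_fib {W : Set (PrimeSpectrum B)} (hW : IsOpen W) (y : PrimeSpectrum A) :
    topologicalKrullDim ↥(W ∩ fib y) = krullDim ↥(W ∩ fib y) := by
  haveI : QuasiSober ↥(fib (B := B) y) :=
    (PrimeSpectrum.preimageHomeomorphFiber A B y).isClosedEmbedding.quasiSober
  let j : ↥(W ∩ fib y) → ↥(fib (B := B) y) := Set.inclusion Set.inter_subset_right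
  have hj : IsOpenEmbedding j := by
    refine ⟨IsEmbedding.inclusion Set.inter_subset_right, ?_⟩
    rw [Set.range_inclusion]
    convert hW.preimage (continuous_subtype_val (p := (· ∈ fib (B := B) y))) using 1
    ext x
    exact ⟨fun h => h.1, fun h => ⟨h, x.2⟩⟩
  haveI : QuasiSober ↥(W ∩ fib y) := hj.quasiSober
  exact krullDim_eq_topologicalKrullDim fun a b => by
    rw [← Subtype.coe_le_coe, PrimeSpectrum.le_iff_specializes, IsInducing.subtypeVal.specializes_iff]

/-- Points near which the dimension of the fibres is at most `n` form an open set. -/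
theorem isOpen_gen_cd_le (n : ℕ) : IsOpen {q : PrimeSpectrum B | Gen A (fun t => cd A t ≤ (n : ℕ∞)) q} := by
  rw [isOpen_iff_forall_mem_open]
  intro q hq
  let y := PrimeSpectrum.comap (algebraMap A B) q
  let φ := PrimeSpectrum.preimageOrderIsoFiber A B y
  let qf : ↥(fib (B := B) y) := ⟨q, rfl⟩
  let T : Set (PrimeSpectrum (y.asIdeal.Fiber B)) := {P | P.asIdeal ∈ minimalPrimes (y.asIdeal.Fiber B) ∧ ¬ P ≤ φ qf}
  haveI : IsNoetherianRing (y.asIdeal.Fiber B) := Algebra.FiniteType.isNoetherianRing y.asIdeal.ResidueField _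
  have hT : T.Finite := Set.Finite.of_finite_image
    ((minimalPrimes.finite_of_isNoetherianRing _).subset (by rintro _ ⟨P, hP, rfl⟩; exact hP.1))
    fun _ _ _ _ h => PrimeSpectrum.ext h
  let C : Set (PrimeSpectrum B) := ⋃ P ∈ T, PrimeSpectrum.zeroLocus ((φ.symm P).1.asIdeal : Set B)
  have hC : IsClosed C := hT.isClosed_biUnion fun _ _ => PrimeSpectrum.isClosed_zeroLocus _
  have hqC : q ∈ Cᶜ := fun h => by
    obtain ⟨P, hP, hPq⟩ := Set.mem_iUnion₂.1 h
    refine hP.2 ?_
    have : φ (φ.symm P) ≤ φ qf := φ.monotone hPq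
    rwa [φ.apply_symm_apply] at this
  have hdim : topologicalKrullDim ↥(Cᶜ ∩ fib y) ≤ n := by
    rw [topologicalKrullDim_inter_fib hC.isOpen_compl]
    refine iSup_le fun l => ?_
    let s : ↥(fib (B := B) y) := ⟨l.head.1, l.head.2.2⟩
    obtain ⟨P, hP, hPs⟩ := Ideal.exists_minimalPrimes_le (bot_le : (⊥ : Ideal (y.asIdeal.Fiber B)) ≤ (φ s).asIdeal)
    let t := φ.symm ⟨P, hP.1.1⟩
    have hts : t ≤ s := φ.le_iff_le.1 (by rw [show φ t = _ from φ.apply_symm_apply _]; exact hPs)
    have htq : t ≤ qf := by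
      by_contra hcon
      refine l.head.2.1 (Set.mem_iUnion₂.2 ⟨⟨P, hP.1.1⟩, ⟨hP, fun h => hcon ?_⟩, hts⟩)
      exact φ.le_iff_le.1 (by rw [show φ t = _ from φ.apply_symm_apply _]; exact h)
    have h1 : coheight t ≤ (n : ℕ∞) := cd_fib y t ▸ hq t.1 htq t.2
    have h2 : (l.length : ℕ∞) ≤ coheight t :=
      length_le_coheight (p := l.map (Set.inclusion (Set.inter_subset_right (s := Cᶜ) (t := fib y))) fun _ _ h => h) hts
    exact_mod_cast h2.trans h1
  obtain ⟨U, hU, hqU, -, hb⟩ := FibDim.exists_basicOpen_dim_le q n Cᶜ hC.isOpen_compl hqC hdim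
  refine ⟨U, fun q' hq' t ht he => ?_, hU, hqU⟩
  let y' := PrimeSpectrum.comap (algebraMap A B) q'
  let φ' := PrimeSpectrum.preimageOrderIsoFiber A B y'
  let tf : ↥(fib (B := B) y') := ⟨t, he⟩
  let k := y'.asIdeal.ResidueField
  let P₀ := φ' tf
  let A' := y'.asIdeal.Fiber B ⧸ P₀.asIdeal
  let ι : PrimeSpectrum A' → PrimeSpectrum (y'.asIdeal.Fiber B) := PrimeSpectrum.comap (Ideal.Quotient.mk P₀.asIdeal)
  let ψ : PrimeSpectrum A' ≃o Set.Ici P₀ :=
    (Ideal.primeSpectrumQuotientOrderIsoZeroLocus P₀.asIdeal).trans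
      (OrderIso.setCongr _ _ (Set.ext fun x => Iff.rfl))
  let O : Set (PrimeSpectrum A') := {x | (φ'.symm (ψ x).1).1 ∈ U}
  have hO : IsOpen O := by
    refine hU.preimage (continuous_subtype_val.comp ?_)
    exact (PrimeSpectrum.preimageHomeomorphFiber A B y').symm.continuous.comp
      (show Continuous ι from PrimeSpectrum.continuous_comap _)
  have hne : O.Nonempty := by
    refine ⟨⟨⊥, Ideal.isPrime_bot⟩, ?_⟩
    have : (ψ ⟨⊥, Ideal.isPrime_bot⟩).1 = P₀ := by
      refine PrimeSpectrum.ext ?_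
      show Ideal.comap (Ideal.Quotient.mk P₀.asIdeal) ⊥ = _
      exact Ideal.mk_ker
    show (φ'.symm (ψ ⟨⊥, Ideal.isPrime_bot⟩).1).1 ∈ U
    rw [this, φ'.symm_apply_apply]
    exact (((PrimeSpectrum.le_iff_specializes _ _).1 ht).mem_open hU hq')
  haveI : IsJacobsonRing A' := isJacobsonRing_of_finiteType (A := k)
  haveI : JacobsonSpace (PrimeSpectrum A') := (PrimeSpectrum.isJacobsonRing_iff_jacobsonSpace (R := A')).1 inferInstance
  obtain ⟨m, hmO, hm⟩ := nonempty_inter_closedPoints hne hO.isLocallyClosed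
  obtain ⟨N, hN, -⟩ := VarDim.exists_dim_eq_trdeg k A'
  have hm' : coheight m = 0 := coheight_eq_zero.2 fun x hx =>
    (Set.mem_singleton_iff.1 (hm.closure_eq ▸ specializes_iff_mem_closure.1 ((PrimeSpectrum.le_iff_specializes _ _).1 hx))).le
  have hA := VarDim.height_add_coheight_eq (k := k) N A' hN m
  rw [hm', add_zero] at hA
  have hcd : cd A t = (N : ℕ∞) := by
    rw [show cd A t = coheight tf from cd_fib y' tf, ← coheight_orderIso φ']
    exact WithBot.coe_inj.1 ((VarDim.coheight_eq_ringKrullDim_quotient _).trans hN)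
  have hmem : ∀ x, x ≤ m → (φ'.symm (ψ x).1).1 ∈ U := fun x hx =>
    ((PrimeSpectrum.le_iff_specializes _ _).1 (show (φ'.symm (ψ x).1).1 ≤ (φ'.symm (ψ m).1).1 from
      φ'.symm.monotone (ψ.monotone hx))).mem_open hU hmO
  have h1 : (height m : WithBot ℕ∞) ≤ krullDim ↥(U ∩ fib y') := by
    rw [height_eq_krullDim_Iic]
    exact krullDim_le_of_strictMono (fun x => ⟨(φ'.symm (ψ x.1).1).1, hmem x.1 x.2, (φ'.symm (ψ x.1).1).2⟩)
      fun a b hab => φ'.symm.strictMono (ψ.strictMono hab)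
  rw [hA, ← topologicalKrullDim_inter_fib hU] at h1
  show cd A t ≤ _
  rw [hcd]
  exact WithBot.coe_le_coe.1 (h1.trans (hb y'))

end Groth.Agent.H1CMDim
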